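import Mathlib
import Groth.Agent.GenFree.Main
import Groth.Agent.ArtFlat.Basic

/-!
Jointly injective families of maps of modules stay jointly injective after a flat base change of finite
presentation (EGA IV 11.10.5).
-/

universe u v

namespace Groth.Agent.FlatInj

open TensorProduct

variable {A B : Type u} [CommRing A] [CommRing B] [Algebra A B]

/-- Finitely presented algebras are free over a stratum through any prime of the base. -/
theorem exists_free_stratum [Algebra.FinitePresentation A B] (p : Ideal A) [p.IsPrime] :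
    ∃ (f : A) (I : Ideal A), f ∉ p ∧ I.FG ∧ I ≤ p ∧
      ∀ (R : Type u) [CommRing R] [Algebra A R], IsUnit (algebraMap A R f) →
        (∀ a ∈ I, algebraMap A R a = 0) → Module.Free R (R ⊗[A] B) := by
  classical
  let P := Algebra.Presentation.ofFinitePresentation A B
  let A₀ := P.Core
  haveI : IsNoetherianRing A₀ := Algebra.FiniteType.isNoetherianRing ℤ A₀
  let B₀ := P.ModelOfHasCoeffs A₀
  let p₀ : Ideal A₀ := p.comap (algebraMap A₀ A)
  let R₀ := A₀ ⧸ p₀
  haveI : Algebra.FiniteType A₀ B₀ := inferInstance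
  obtain ⟨f₀, hf₀, -, hfree, -⟩ := Groth.Agent.GenFree.generic_freeness (R := R₀) (S := R₀ ⊗[A₀] B₀)
    (M := R₀ ⊗[A₀] B₀)
  obtain ⟨f₁, rfl⟩ := Ideal.Quotient.mk_surjective f₀
  refine ⟨algebraMap A₀ A f₁, p₀.map (algebraMap A₀ A), fun h => hf₀ (Ideal.Quotient.eq_zero_iff_mem.mpr h),
    Ideal.FG.map (IsNoetherian.noetherian p₀) _, Ideal.map_comap_le, ?_⟩
  intro R _ _ hu hI
  letI : Algebra A₀ R := ((algebraMap A R).comp (algebraMap A₀ A)).toAlgebra
  haveI : IsScalarTower A₀ A R := IsScalarTower.of_algebraMap_eq' rfl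
  letI : Algebra R₀ R := (Ideal.Quotient.lift p₀ (algebraMap A₀ R)
    (fun a ha => hI _ (Ideal.mem_map_of_mem _ ha))).toAlgebra
  haveI : IsScalarTower A₀ R₀ R := IsScalarTower.of_algebraMap_eq' rfl
  let L := Localization.Away (Ideal.Quotient.mk p₀ f₁)
  letI : Algebra L R := (IsLocalization.Away.lift (S := L) (Ideal.Quotient.mk p₀ f₁)
    (g := algebraMap R₀ R) (show IsUnit (algebraMap A R (algebraMap A₀ A f₁)) from hu)).toAlgebra
  haveI : IsScalarTower R₀ L R := IsScalarTower.of_algebraMap_eq (R := R₀) (S := L) (A := R)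
    fun x => (IsLocalization.Away.lift_eq _ _ x).symm
  haveI : Module.Free R (R ⊗[L] (L ⊗[R₀] (R₀ ⊗[A₀] B₀))) := inferInstance
  exact Module.Free.of_equiv
    ((AlgebraTensorModule.cancelBaseChange R₀ L R R (R₀ ⊗[A₀] B₀)).trans
      ((AlgebraTensorModule.cancelBaseChange A₀ R₀ R R B₀).trans
        ((AlgebraTensorModule.cancelBaseChange A₀ A R R B₀).symm.trans
          (AlgebraTensorModule.congr (LinearEquiv.refl R R)
            ((P.tensorModelOfHasCoeffsEquiv A₀).toLinearEquiv)))))

/-- Flat modules free modulo a nilpotent ideal are free. -/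
theorem free_of_nilpotent {R : Type u} [CommRing R] {J : Ideal R} (hJ : IsNilpotent J) (M : Type u)
    [AddCommGroup M] [Module R M] [Module.Flat R M] [Module.Free (R ⧸ J) ((R ⧸ J) ⊗[R] M)] :
    Module.Free R M := by
  classical
  let ι := Module.Free.ChooseBasisIndex (R ⧸ J) ((R ⧸ J) ⊗[R] M)
  let b := Module.Free.chooseBasis (R ⧸ J) ((R ⧸ J) ⊗[R] M)
  choose e he using fun j => TensorProduct.mk_surjective R M (R ⧸ J) Ideal.Quotient.mk_surjective (b j)
  let φ : (ι →₀ R) →ₗ[R] M := Finsupp.linearCombination R e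
  suffices h : Function.Bijective φ from Module.Free.of_equiv (LinearEquiv.ofBijective φ h)
  apply Groth.Agent.ArtFlat.bijective_of_baseChange hJ
  have h1 : ∀ z, φ.lTensor (R ⧸ J) z =
      b.repr.symm (TensorProduct.finsuppScalarRight R (R ⧸ J) (R ⧸ J) ι z) := by
    intro z
    induction z using TensorProduct.induction_on with
    | zero => simp
    | add x y hx hy => rw [map_add, hx, hy, map_add, map_add]
    | tmul r v =>
      induction v using Finsupp.induction_linear with
      | zero => simp
      | add x y hx hy => rw [tmul_add, map_add, hx, hy, map_add, map_add]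
      | single j a =>
        rw [LinearMap.lTensor_tmul, Finsupp.linearCombination_single,
          TensorProduct.finsuppScalarRight_apply_tmul, Finsupp.sum_single_index (by simp),
          b.repr_symm_single, tmul_smul, ← he j]
        show a • (r ⊗ₜ[R] e j) = (a • r) • ((1 : R ⧸ J) ⊗ₜ[R] e j)
        rw [smul_tmul', smul_tmul', smul_eq_mul (a • r), mul_one]
  have hb : Function.Bijective fun z =>
      b.repr.symm (TensorProduct.finsuppScalarRight R (R ⧸ J) (R ⧸ J) ι z) :=
    b.repr.symm.bijective.comp (LinearEquiv.bijective _)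
  rwa [show (fun z => b.repr.symm (TensorProduct.finsuppScalarRight R (R ⧸ J) (R ⧸ J) ι z)) =
    ⇑(φ.lTensor (R ⧸ J)) from funext fun z => (h1 z).symm] at hb

/-- The `R`-coordinates of an element of `F ⊗[A] B` when `R ⊗[A] B` is free. -/
noncomputable def coords {R : Type u} [CommRing R] [Algebra A R] (F : Type v) [AddCommGroup F] [Module A F]
    [Module R F] [IsScalarTower A R F] {κ : Type u} [DecidableEq κ] (b : Module.Basis κ R (R ⊗[A] B)) :
    F ⊗[A] B ≃+ (κ →₀ F) :=
  ((AlgebraTensorModule.cancelBaseChange A R R F B).symm.toAddEquiv.trans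
    (TensorProduct.equivFinsuppOfBasisRight b).toAddEquiv)

theorem coords_tmul {R : Type u} [CommRing R] [Algebra A R] {F : Type v} [AddCommGroup F] [Module A F]
    [Module R F] [IsScalarTower A R F] {κ : Type u} [DecidableEq κ] (b : Module.Basis κ R (R ⊗[A] B)) (x : F) (y : B) (j : κ) :
    coords F b (x ⊗ₜ y) j = b.repr ((1 : R) ⊗ₜ y) j • x :=
  TensorProduct.equivFinsuppOfBasisRight_apply_tmul_apply b x ((1 : R) ⊗ₜ y) j

theorem coords_map {R : Type u} [CommRing R] [Algebra A R] {F G : Type v} [AddCommGroup F] [Module A F]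
    [Module R F] [IsScalarTower A R F] [AddCommGroup G] [Module A G] [Module R G] [IsScalarTower A R G]
    {κ : Type u} [DecidableEq κ] (b : Module.Basis κ R (R ⊗[A] B)) (u : F →ₗ[R] G) (w : F ⊗[A] B) (j : κ) :
    coords G b ((u.restrictScalars A).rTensor B w) j = u (coords F b w j) := by
  induction w using TensorProduct.induction_on with
  | zero => simp
  | add x y hx hy => simp only [map_add, Finsupp.add_apply, hx, hy]
  | tmul x y => rw [LinearMap.rTensor_tmul, coords_tmul, coords_tmul, map_smul]; rfl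

/-- EGA IV 11.10.5: if a family of maps of modules is jointly injective on every basic open then so is its
base change along a flat finitely presented algebra. -/
theorem eq_zero_of_forall_rTensor [Algebra.FinitePresentation A B] [Module.Flat A B] {σ : Type*}
    {M : Type v} [AddCommGroup M] [Module A M] {N : σ → Type v} [∀ i, AddCommGroup (N i)] [∀ i, Module A (N i)]
    (u : ∀ i, M →ₗ[A] N i)
    (h : ∀ (f : A) (x : LocalizedModule.Away f M),
      (∀ i, IsLocalizedModule.map (Submonoid.powers f) (LocalizedModule.mkLinearMap (Submonoid.powers f) M)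
        (LocalizedModule.mkLinearMap (Submonoid.powers f) (N i)) (u i) x = 0) → x = 0)
    (t : M ⊗[A] B) (ht : ∀ i, (u i).rTensor B t = 0) : t = 0 := by
  classical
  by_contra hne
  let J : Ideal A := Ideal.torsionOf A (M ⊗[A] B) t
  have hJtop : J ≠ ⊤ := fun hh => hne (by
    have := (Ideal.mem_torsionOf_iff t (1 : A)).mp (show (1 : A) ∈ J by rw [hh]; exact Submodule.mem_top)
    rwa [one_smul] at this)
  obtain ⟨p, hp⟩ := Ideal.nonempty_minimalPrimes hJtop
  haveI := hp.isPrime
  obtain ⟨f₁, I, hf₁, hI, hIp, hfree⟩ := exists_free_stratum (A := A) (B := B) p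
  obtain ⟨Is, hIs⟩ := hI
  have hkill : ∀ a ∈ Is, ∃ n : ℕ, ∃ s : A, s ∉ p ∧ (s * a ^ n) • t = 0 := by
    intro a ha
    have h0 := IsLocalization.AtPrime.radical_map_of_mem_minimalPrimes (Localization.AtPrime p) p J hp
    have h1 : algebraMap A (Localization.AtPrime p) a ∈
        (J.map (algebraMap A (Localization.AtPrime p))).radical := by
      rw [h0]; exact Ideal.mem_map_of_mem _ (hIp (hIs ▸ Ideal.subset_span ha))
    obtain ⟨n, hn⟩ := h1
    rw [← map_pow, IsLocalization.algebraMap_mem_map_algebraMap_iff p.primeCompl] at hn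
    obtain ⟨s, hs, hsn⟩ := hn
    exact ⟨n, s, hs, (Ideal.mem_torsionOf_iff _ _).mp hsn⟩
  choose nn ss hss hnn using hkill
  let f₂ : A := ∏ a ∈ Is.attach, ss a.1 a.2
  let f : A := f₁ * f₂
  have hfp : f ∉ p := by
    intro hh
    rcases Ideal.IsPrime.mem_or_mem inferInstance hh with hh | hh
    · exact hf₁ hh
    · obtain ⟨a, _, ha⟩ := Ideal.IsPrime.prod_mem_iff.mp hh
      exact hss _ _ ha
  let Ks : Finset A := Is.attach.image fun a => a.1 ^ nn a.1 a.2
  let K : Ideal A := Ideal.span (Ks : Set A)
  have hKt : ∀ a ∈ Ks, (f * a) • t = 0 := by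
    intro a ha
    obtain ⟨c, hc, rfl⟩ := Finset.mem_image.mp ha
    obtain ⟨r, hr⟩ : ss c.1 c.2 ∣ f :=
      dvd_mul_of_dvd_right (Finset.dvd_prod_of_mem (fun a : {a // a ∈ Is} => ss a.1 a.2) hc) _
    rw [hr, show ss c.1 c.2 * r * c.1 ^ nn c.1 c.2 = r * (ss c.1 c.2 * c.1 ^ nn c.1 c.2) by ring,
      mul_smul, hnn _ _, smul_zero]
  have hIK : I ≤ K.radical := by
    rw [← hIs, Ideal.span_le]
    intro a ha
    exact ⟨nn a ha, Ideal.subset_span (Finset.mem_image.mpr ⟨⟨a, ha⟩, Finset.mem_attach _ _, rfl⟩)⟩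
  obtain ⟨m, hm⟩ := Ideal.exists_pow_le_of_le_radical_of_fg hIK ⟨Is, hIs⟩
  -- the localised ring and the stratum
  let A' := Localization.Away f
  let K' : Ideal A' := K.map (algebraMap A A')
  let R := A' ⧸ K'
  have hKR : ∀ a ∈ K, algebraMap A R a = 0 := fun a ha => by
    rw [IsScalarTower.algebraMap_apply A A' R]
    exact Ideal.Quotient.eq_zero_iff_mem.mpr (Ideal.mem_map_of_mem _ ha)
  have hu : IsUnit (algebraMap A R f₁) := by
    rw [IsScalarTower.algebraMap_apply A A' R]
    exact (isUnit_of_dvd_unit (map_dvd _ (dvd_mul_right f₁ f₂))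
      (IsLocalization.Away.algebraMap_isUnit f)).map _
  let IR : Ideal R := I.map (algebraMap A R)
  have hnil : IsNilpotent IR := by
    refine ⟨m, le_bot_iff.mp ?_⟩
    rw [← Ideal.map_pow, Ideal.map_le_iff_le_comap]
    exact fun a ha => hKR a (hm ha)
  haveI : Module.Free (R ⧸ IR) ((R ⧸ IR) ⊗[A] B) := hfree (R ⧸ IR)
    (by rw [IsScalarTower.algebraMap_apply A R (R ⧸ IR)]; exact hu.map _)
    (fun a ha => by
      rw [IsScalarTower.algebraMap_apply A R (R ⧸ IR)]
      exact Ideal.Quotient.eq_zero_iff_mem.mpr (Ideal.mem_map_of_mem _ ha))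
  haveI : Module.Free (R ⧸ IR) ((R ⧸ IR) ⊗[R] (R ⊗[A] B)) :=
    Module.Free.of_equiv (AlgebraTensorModule.cancelBaseChange A R (R ⧸ IR) (R ⧸ IR) B).symm
  haveI : Module.Free R (R ⊗[A] B) := free_of_nilpotent hnil _
  let b := Module.Free.chooseBasis R (R ⊗[A] B)
  -- the parts killed by `K`
  let S := Submonoid.powers f
  let M' := LocalizedModule S M
  let N' := fun i => LocalizedModule S (N i)
  let u' : ∀ i, M' →ₗ[A] N' i := fun i => IsLocalizedModule.map S (LocalizedModule.mkLinearMap _ M)
    (LocalizedModule.mkLinearMap _ (N i)) (u i)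
  let v : ∀ i, M' →ₗ[A'] N' i := fun i => (u' i).extendScalarsOfIsLocalization S A'
  let F := Submodule.torsionBySet A' M' (K' : Set A')
  let G := fun i => Submodule.torsionBySet A' (N' i) (K' : Set A')
  let w : ∀ i, F →ₗ[A'] G i := fun i => ((v i).comp F.subtype).codRestrict _ (fun x => by
    rw [Submodule.mem_torsionBySet_iff]
    intro a
    show (a : A') • v i (x : M') = 0
    rw [← map_smul, (Submodule.mem_torsionBySet_iff _ _).mp x.2 a, map_zero])
  let wR : ∀ i, F →ₗ[R] G i := fun i =>
    (w i).extendScalarsOfSurjective (S := R) Ideal.Quotient.mk_surjective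
  have hinjG : ∀ i, Function.Injective (((G i).subtype.restrictScalars A).rTensor B) := fun i =>
    Module.Flat.rTensor_preserves_injective_linearMap _ (G i).injective_subtype
  -- `t` comes from `F ⊗ B`
  let ℓ : M →ₗ[A] M' := LocalizedModule.mkLinearMap S M
  let t' : M' ⊗[A] B := ℓ.rTensor B t
  have ht' : t' ≠ 0 := by
    intro hz
    haveI : IsLocalizedModule S (AlgebraTensorModule.rTensor A B ℓ) := inferInstance
    obtain ⟨c, hc⟩ := (IsLocalizedModule.eq_zero_iff S (AlgebraTensorModule.rTensor A B ℓ)).mp hz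
    obtain ⟨c, n, rfl⟩ := c
    exact hfp (Ideal.IsPrime.mem_of_pow_mem inferInstance n
      (hp.le ((Ideal.mem_torsionOf_iff t _).mpr hc)))
  let mu : M' →ₗ[A] (↥Ks → M') := LinearMap.pi fun a => LinearMap.lsmul A M' (a : A)
  have hexact : Function.Exact (F.subtype.restrictScalars A) mu := by
    intro x
    constructor
    · intro hx
      refine ⟨⟨x, ?_⟩, rfl⟩
      rw [Submodule.mem_torsionBySet_iff]
      intro a
      have ha := a.2
      show (a : A') • x = 0
      suffices hle : K' ≤ Ideal.torsionOf A' M' x from (Ideal.mem_torsionOf_iff _ _).mp (hle ha)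
      rw [show K' = Ideal.span (algebraMap A A' '' (Ks : Set A)) from Ideal.map_span _ _, Ideal.span_le]
      rintro _ ⟨c, hc, rfl⟩
      rw [SetLike.mem_coe, Ideal.mem_torsionOf_iff, algebraMap_smul]
      exact congrFun hx ⟨c, hc⟩
    · rintro ⟨y, rfl⟩
      funext a
      show (a : A) • (y : M') = 0
      rw [← algebraMap_smul A' (a : A) (y : M')]
      exact (Submodule.mem_torsionBySet_iff _ _).mp y.2 ⟨_, Ideal.mem_map_of_mem _ (Ideal.subset_span a.2)⟩
  have hmu : mu.rTensor B t' = 0 := by
    apply (TensorProduct.piLeft A B (fun _ : ↥Ks => M')).injective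
    rw [map_zero]
    funext a
    have e1 : ∀ z, TensorProduct.piLeft A B (fun _ : ↥Ks => M') (mu.rTensor B z) a = (a : A) • z := by
      intro z
      induction z using TensorProduct.induction_on with
      | zero => simp
      | add x y hx hy => simp only [map_add, Pi.add_apply, hx, hy, smul_add]
      | tmul x y => simp [mu, smul_tmul']
    rw [e1, Pi.zero_apply]
    haveI : IsLocalizedModule S (AlgebraTensorModule.rTensor A B ℓ) := inferInstance
    have hz : (f • (a : A) • t') = 0 := by
      show f • (a : A) • ℓ.rTensor B t = 0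
      rw [← map_smul, ← map_smul, smul_smul, hKt _ a.2, map_zero]
    exact IsLocalizedModule.smul_injective (AlgebraTensorModule.rTensor A B ℓ)
      (⟨f, Submonoid.mem_powers f⟩ : S) ((show _ = f • (0 : M' ⊗[A] B) by rw [smul_zero]; exact hz))
  obtain ⟨z, hz⟩ := (Module.Flat.rTensor_exact B hexact t').mp hmu
  have hwz : ∀ i, ((wR i).restrictScalars A).rTensor B z = 0 := by
    intro i
    apply hinjG i
    rw [map_zero, ← LinearMap.comp_apply, ← LinearMap.rTensor_comp,
      show ((G i).subtype.restrictScalars A).comp ((wR i).restrictScalars A) =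
        (u' i).comp (F.subtype.restrictScalars A) from LinearMap.ext fun x => rfl,
      LinearMap.rTensor_comp, LinearMap.comp_apply, hz]
    show (u' i).rTensor B (ℓ.rTensor B t) = 0
    rw [← LinearMap.comp_apply, ← LinearMap.rTensor_comp,
      show (u' i).comp ℓ = (LocalizedModule.mkLinearMap S (N i)).comp (u i) from
        IsLocalizedModule.map_comp S _ _ (u i),
      LinearMap.rTensor_comp, LinearMap.comp_apply, ht i, map_zero]
  have hz0 : z = 0 := by
    apply (coords ↥F b).injective
    rw [map_zero]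
    ext1 j
    apply Subtype.ext
    refine h f _ fun i => ?_
    have := coords_map b (wR i) z j
    rw [hwz i, map_zero, Finsupp.zero_apply] at this
    exact congrArg Subtype.val this.symm
  exact ht' (by rw [← hz, hz0, map_zero])

end Groth.Agent.FlatInj
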